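import Groth.Agent.Lib.MTSub29.Conv
import Groth.Agent.Lib.MultType.Field
import Mathlib.LinearAlgebra.LinearIndependent.Lemmas
import Mathlib.LinearAlgebra.Dimension.Finrank
import Mathlib.RingTheory.LocalRing.Module
import Mathlib.RingTheory.RootsOfUnity.PrimitiveRoots
import Mathlib.NumberTheory.Cyclotomic.Basic

/-!
# Field valued points of subgroups of groups of multiplicative type
-/

universe u

set_option autoImplicit false
set_option linter.style.haveILetI false

open TensorProduct WithConv Coalgebra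

namespace Groth.Agent.MTSub29

variable {R : Type u} [CommRing R] {A : Type u} [CommRing A] [HopfAlgebra R A]

theorem isDiag_algClosed (hft : Algebra.FiniteType R A) (h : SGA3b.IsMultType R A) (K : Type u)
    [Field K] [IsAlgClosed K] [Algebra R K] : SGA3b.IsDiag K (K ⊗[R] A) := by
  haveI := hft
  obtain ⟨R', _, _, _, hfin, hff, hd⟩ := MultTypeLib.isIsotrivial_of_field
    (k := K) (C := K ⊗[R] A) inferInstance (MultTypeLib.isMultType_baseChange K h)
  haveI := hfin; haveI := hff
  haveI : Nontrivial R' := (FaithfulSMul.algebraMap_injective K R').nontrivial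
  obtain ⟨m, hm⟩ := Ideal.exists_maximal R'
  haveI : Module.Finite K (R' ⧸ m) := inferInstance
  letI := Ideal.Quotient.field m
  have hb : Function.Bijective (algebraMap K (R' ⧸ m)) :=
    IsAlgClosed.algebraMap_bijective_of_isIntegral
  let φ : R' →ₐ[K] K :=
    (AlgEquiv.ofBijective (Algebra.ofId K (R' ⧸ m)) hb).symm.toAlgHom.comp (Ideal.Quotient.mkₐ K m)
  letI : Algebra R' K := φ.toAlgebra
  haveI : IsScalarTower K R' K := IsScalarTower.of_algebraMap_eq fun x => (φ.commutes x).symm
  have h2 := MultTypeLib.isDiag_baseChange (R := K) (A := K ⊗[R] A) R' K hd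
  exact MultTypeLib.isDiag_of_tensor_tensor (R := R) (A := A) K K h2

section Pt

variable {K : Type u} [Field K] [Algebra R K] {M : Type u} [CommGroup M]
  (e : K ⊗[R] A ≃ₐc[K] MonoidAlgebra K M)

/-- The point attached to a character. -/
noncomputable def pt (χ : M →* Kˣ) : WithConv (A →ₐ[R] K) :=
  toConv ((((MonoidAlgebra.lift K K M ((Units.coeHom K).comp χ)).comp
    (e : K ⊗[R] A →ₐ[K] MonoidAlgebra K M)).restrictScalars R).comp Algebra.TensorProduct.includeRight)

theorem pt_apply (χ : M →* Kˣ) (a : A) : (pt e χ).ofConv a =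
    MonoidAlgebra.lift K K M ((Units.coeHom K).comp χ) (e ((1 : K) ⊗ₜ[R] a)) := rfl

theorem pt_one : pt e 1 = 1 := by
  apply ofConv_injective
  refine AlgHom.ext fun a => ?_
  have h1 : ∀ G : MonoidAlgebra K M,
      MonoidAlgebra.lift K K M ((Units.coeHom K).comp 1) G = counit (R := K) G := fun G => by
    induction G using MonoidAlgebra.induction_linear with
    | zero => simp
    | add x y hx hy => simp only [map_add, hx, hy]
    | single m r => simp
  rw [pt_apply, h1, CoalgHomClass.counit_comp_apply e]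
  show counit (R := K) ((1 : K) ⊗ₜ[R] a) = algebraMap R K (counit a)
  simp [Algebra.algebraMap_eq_smul_one]

theorem pt_mul (χ χ' : M →* Kˣ) : pt e (χ * χ') = pt e χ * pt e χ' := by
  apply ofConv_injective
  refine AlgHom.ext fun a => ?_
  show _ = (pt e χ * pt e χ') a
  rw [AlgHom.convMul_apply, pt_apply]
  let P := Algebra.TensorProduct.lift (MonoidAlgebra.lift K K M ((Units.coeHom K).comp χ))
    (MonoidAlgebra.lift K K M ((Units.coeHom K).comp χ')) (fun _ _ => Commute.all _ _)
  have h1 : ∀ G : MonoidAlgebra K M,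
      MonoidAlgebra.lift K K M ((Units.coeHom K).comp (χ * χ')) G = P (comul (R := K) G) := fun G => by
    induction G using MonoidAlgebra.induction_linear with
    | zero => simp
    | add x y hx hy => simp only [map_add, hx, hy]
    | single m r => simp [P, mul_left_comm]
  have key : ∀ z : A ⊗[R] A,
      P (TensorProduct.map (e : K ⊗[R] A →ₗ[K] MonoidAlgebra K M)
        (e : K ⊗[R] A →ₗ[K] MonoidAlgebra K M) (MultTypeLib.inclTwo K z)) =
      Algebra.TensorProduct.lift (pt e χ).ofConv (pt e χ').ofConv (fun _ _ => Commute.all _ _) z := by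
    intro z
    induction z using TensorProduct.induction_on with
    | zero => simp
    | tmul x y => simp [MultTypeLib.inclTwo_tmul, P, pt_apply]
    | add x y hx hy => simp only [map_add, hx, hy]
  rw [h1, ← key, ← MultTypeLib.comul_one_tmul]
  exact congrArg P (CoalgHomClass.map_comp_comul_apply e _).symm

theorem pt_pow (χ : M →* Kˣ) (n : ℕ) : pt e (χ ^ n) = pt e χ ^ n := by
  induction n with
  | zero =>
    rw [show χ ^ 0 = 1 from MonoidHom.ext fun m => by rw [MonoidHom.pow_apply, pow_zero]; rfl, pt_one,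
      pow_zero]
  | succ n ih =>
    rw [show χ ^ (n + 1) = χ ^ n * χ from MonoidHom.ext fun m => by
      simp only [MonoidHom.pow_apply, MonoidHom.mul_apply, pow_succ], pt_mul, ih, pow_succ]

theorem pt_injective : Function.Injective (pt e) := by
  intro χ χ' h
  have key : ∀ z : K ⊗[R] A, MonoidAlgebra.lift K K M ((Units.coeHom K).comp χ) (e z) =
      MonoidAlgebra.lift K K M ((Units.coeHom K).comp χ') (e z) := fun z => by
    induction z using TensorProduct.induction_on with
    | zero => simp
    | tmul t a =>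
      rw [show t ⊗ₜ[R] a = t • ((1 : K) ⊗ₜ[R] a) by rw [TensorProduct.smul_tmul', smul_eq_mul, mul_one]]
      rw [map_smul, map_smul, map_smul]
      exact congrArg (t • ·) (DFunLike.congr_fun (congrArg ofConv h) a)
    | add x y hx hy => simp only [map_add, hx, hy]
  refine MonoidHom.ext fun m => Units.ext ?_
  have := key (e.symm (MonoidAlgebra.single m 1))
  rw [e.apply_symm_apply] at this
  simpa using this

theorem pt_surjective : Function.Surjective (pt e) := by
  intro y
  let Y : K ⊗[R] A →ₐ[K] K :=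
    Algebra.TensorProduct.lift (AlgHom.id K K) y.ofConv (fun _ _ => Commute.all _ _)
  let c : M →* K := ((Y.comp (e.symm : MonoidAlgebra K M →ₐ[K] K ⊗[R] A)).toRingHom.toMonoidHom).comp
    (MonoidAlgebra.of K M)
  refine ⟨c.toHomUnits, ofConv_injective (AlgHom.ext fun a => ?_)⟩
  have h : MonoidAlgebra.lift K K M ((Units.coeHom K).comp c.toHomUnits) =
      Y.comp (e.symm : MonoidAlgebra K M →ₐ[K] K ⊗[R] A) := by
    ext m
    show MonoidAlgebra.lift K K M ((Units.coeHom K).comp c.toHomUnits) (MonoidAlgebra.single m 1) = _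
    rw [MonoidAlgebra.lift_single, one_smul]
    rfl
  rw [pt_apply, h, AlgHom.comp_apply]
  show Y (e.symm (e ((1 : K) ⊗ₜ[R] a))) = _
  rw [e.symm_apply_apply]
  simp [Y]

/-- Characters killing `J` propagate to characters with larger kernel. -/
theorem kills_of_factor {J : Ideal A} (χ ψ : M →* Kˣ) (h : ∀ j : ℕ, Kills J (pt e (χ ^ j)))
    (g : Kˣ → Kˣ) (hg : ∀ m, ψ m = g (χ m)) : Kills J (pt e ψ) := by
  classical
  intro x hx
  set G := e ((1 : K) ⊗ₜ[R] x)
  let c : K → K := fun v => ∑ m ∈ G.coeff.support.filter (fun m => (χ m : K) = v), G.coeff m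
  let S := G.coeff.support.image (fun m => (χ m : K))
  have hsum : ∀ j : ℕ, ∑ v ∈ S, c v * v ^ j = 0 := fun j => by
    have h1 := h j x hx
    rw [pt_apply, MonoidAlgebra.lift_apply, Finsupp.sum] at h1
    refine Eq.trans ?_ h1
    rw [← Finset.sum_fiberwise_of_maps_to (t := S) (fun m hm => Finset.mem_image_of_mem _ hm)]
    refine Finset.sum_congr rfl fun v _ => ?_
    rw [Finset.sum_mul]
    refine Finset.sum_congr rfl fun m hm => ?_
    obtain ⟨-, rfl⟩ := Finset.mem_filter.mp hm
    simp [G]
  have hc : ∀ v ∈ S, c v = 0 := by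
    have hli : LinearIndependent K
        (fun v : K => ((powersHom K v : Multiplicative ℕ →* K) : Multiplicative ℕ → K)) :=
      (linearIndependent_monoidHom (Multiplicative ℕ) K).comp (powersHom K) (powersHom K).injective
    refine linearIndependent_iff'.1 hli S c (funext fun j => ?_)
    rw [Finset.sum_apply]
    refine Eq.trans ?_ (hsum (Multiplicative.toAdd j))
    exact Finset.sum_congr rfl fun v _ => rfl
  rw [pt_apply, MonoidAlgebra.lift_apply, Finsupp.sum]
  rw [← Finset.sum_fiberwise_of_maps_to (t := S) (fun m hm => Finset.mem_image_of_mem _ hm)]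
  refine Finset.sum_eq_zero fun v hv => ?_
  obtain ⟨m₀, hm₀, rfl⟩ := Finset.mem_image.mp hv
  refine Eq.trans ?_ (show c (χ m₀ : K) * (g (χ m₀) : K) = 0 by rw [hc _ hv, zero_mul])
  rw [Finset.sum_mul]
  refine Finset.sum_congr rfl fun m hm => ?_
  obtain ⟨-, hval⟩ := Finset.mem_filter.mp hm
  simp [G, hg, Units.ext hval]

end Pt

theorem finite_quot_torsion (hft : Algebra.FiniteType R A) (h : SGA3b.IsMultType R A) {n : ℕ}
    (hn : 0 < n) : Module.Finite R (A ⧸ SGA3b.torsionIdeal R A n) := by
  obtain ⟨ι, _, U, _, _, _, hff, hd⟩ := MultTypeLib.exists_split_family h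
  refine MultTypeLib.finite_of_family U _ fun i => ?_
  rcases subsingleton_or_nontrivial (U i) with hs | hs
  · haveI : Subsingleton (U i ⊗[R] (A ⧸ SGA3b.torsionIdeal R A n)) := Module.subsingleton (U i) _
    infer_instance
  obtain ⟨M, _, ⟨e⟩⟩ := hd i
  haveI := MultTypeLib.group_fg_of_diag hft e
  haveI := MultTypeLib.finite_quot_pow (M := M) hn
  set T := SGA3b.torsionIdeal R A n
  let q : U i ⊗[R] A →ₐ[U i] U i ⊗[R] (A ⧸ T) :=
    Algebra.TensorProduct.map (AlgHom.id (U i) (U i)) (Ideal.Quotient.mkₐ R T)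
  let φ : MonoidAlgebra (U i) M →ₐ[U i] U i ⊗[R] (A ⧸ T) :=
    q.comp (e.symm : MonoidAlgebra (U i) M →ₐ[U i] U i ⊗[R] A)
  have hφ1 : ∀ m : M, φ (MonoidAlgebra.single (m ^ n) 1) = 1 := fun m => by
    have hG := (MonoidAlgebra.isGroupLikeElem_single_one (R := U i) (A := U i) m).map e.symm
    have h2 := MultTypeLib.map_sub_counit_mem (W := U i) (SGA3b.powConv R A n) (J := T) rfl
      (e.symm (MonoidAlgebra.single m 1))
    rw [hG.counit_eq_one, map_one, MultTypeLib.map_powConv_glike (U i) n hG] at h2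
    have hker : T.map (Algebra.TensorProduct.includeRight : A →ₐ[R] U i ⊗[R] A) ≤ RingHom.ker q := by
      refine Ideal.map_le_iff_le_comap.2 fun t ht => ?_
      show q ((1 : U i) ⊗ₜ[R] t) = 0
      simp [q, Ideal.Quotient.eq_zero_iff_mem.2 ht]
    have h3 : q (e.symm (MonoidAlgebra.single m 1) ^ n - 1) = 0 := hker h2
    rw [map_sub, map_one, sub_eq_zero] at h3
    rw [show MonoidAlgebra.single (m ^ n) (1 : U i) = MonoidAlgebra.single m 1 ^ n by
      rw [MonoidAlgebra.single_pow, one_pow], map_pow]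
    rw [map_pow] at h3
    exact h3
  have hsurj : Function.Surjective φ := by
    intro z
    obtain ⟨w, rfl⟩ := (show Function.Surjective q from by
      intro z
      induction z using TensorProduct.induction_on with
      | zero => exact ⟨0, map_zero _⟩
      | tmul t a =>
        obtain ⟨a, rfl⟩ := Ideal.Quotient.mk_surjective a
        exact ⟨t ⊗ₜ a, rfl⟩
      | add x y hx hy =>
        obtain ⟨x, rfl⟩ := hx; obtain ⟨y, rfl⟩ := hy
        exact ⟨x + y, map_add _ _ _⟩) z
    exact ⟨e w, congrArg q (e.symm_apply_apply w)⟩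
  let N := (powMonoidHom n : M →* M).range
  refine ⟨Submodule.fg_def.2 ⟨Set.range fun r : M ⧸ N => φ (MonoidAlgebra.single r.out 1),
    Set.finite_range _, eq_top_iff.2 fun z _ => ?_⟩⟩
  obtain ⟨w, rfl⟩ := hsurj z
  induction w using MonoidAlgebra.induction_linear with
  | zero => rw [map_zero]; exact Submodule.zero_mem _
  | add x y hx hy => rw [map_add]; exact Submodule.add_mem _ (hx trivial) (hy trivial)
  | single m r =>
    obtain ⟨⟨_, k, rfl⟩, hk⟩ := QuotientGroup.mk_out_eq_mul N m
    have : φ (MonoidAlgebra.single m r) = r • φ (MonoidAlgebra.single (m : M ⧸ N).out 1) := by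
      rw [hk, show MonoidAlgebra.single (m * (powMonoidHom n : M →* M) k) (1 : U i) =
        MonoidAlgebra.single m 1 * MonoidAlgebra.single (k ^ n) 1 by simp, map_mul, hφ1, mul_one,
        ← map_smul]
      simp
    rw [this]
    exact Submodule.smul_mem _ _ (Submodule.subset_span ⟨_, rfl⟩)

variable [IsLocalRing R] {J : Ideal A}

/-- A number of generators working for all torsion pieces. -/
theorem exists_span_bound (hft : Algebra.FiniteType R A) (h : SGA3b.IsMultType R A)
    (hs : Module.Finite (IsLocalRing.ResidueField R) (IsLocalRing.ResidueField R ⊗[R] (A ⧸ J))) :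
    ∃ (d : ℕ) (b : Fin d → A), ∀ N : ℕ, 0 < N →
      Submodule.span R (Set.range b) ⊔ (J ⊔ SGA3b.torsionIdeal R A N).restrictScalars R = ⊤ := by
  haveI := hs
  haveI : Module.Finite R (IsLocalRing.ResidueField R) :=
    Module.Finite.of_surjective (Algebra.linearMap R _) IsLocalRing.residue_surjective
  haveI : Module.Finite R (IsLocalRing.ResidueField R ⊗[R] (A ⧸ J)) :=
    Module.Finite.trans (IsLocalRing.ResidueField R) _
  let κ : A →ₗ[R] IsLocalRing.ResidueField R ⊗[R] (A ⧸ J) :=
    (TensorProduct.mk R _ _ 1).comp (Ideal.Quotient.mkₐ R J).toLinearMap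
  have hκ : Function.Surjective κ := by
    intro z
    induction z using TensorProduct.induction_on with
    | zero => exact ⟨0, map_zero _⟩
    | tmul t a =>
      obtain ⟨r, rfl⟩ := IsLocalRing.residue_surjective t
      obtain ⟨a, rfl⟩ := Ideal.Quotient.mk_surjective a
      refine ⟨r • a, ?_⟩
      show (1 : IsLocalRing.ResidueField R) ⊗ₜ[R] (Ideal.Quotient.mkₐ R J (r • a)) = _
      rw [map_smul, ← TensorProduct.smul_tmul, Algebra.smul_def, mul_one]
      rfl
    | add x y hx hy =>
      obtain ⟨x, rfl⟩ := hx; obtain ⟨y, rfl⟩ := hy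
      exact ⟨x + y, map_add _ _ _⟩
  obtain ⟨d, s, hs'⟩ := Module.Finite.exists_fin (R := R)
    (M := IsLocalRing.ResidueField R ⊗[R] (A ⧸ J))
  choose b hb using fun i => hκ (s i)
  refine ⟨d, b, fun N hN => ?_⟩
  set F := A ⧸ (J ⊔ SGA3b.torsionIdeal R A N)
  haveI := finite_quot_torsion hft h hN
  haveI : Module.Finite R F := Module.Finite.of_surjective
    (Ideal.Quotient.factorₐ R (le_sup_right : SGA3b.torsionIdeal R A N ≤ _)).toLinearMap
    (Ideal.Quotient.factor_surjective le_sup_right)
  let π : A →ₗ[R] F := (Ideal.Quotient.mkₐ R _).toLinearMap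
  have hpi : (Submodule.span R (Set.range b)).map π = ⊤ := by
    rw [← IsLocalRing.map_tensorProduct_mk_eq_top, eq_top_iff]
    rintro z -
    let τ : IsLocalRing.ResidueField R ⊗[R] (A ⧸ J) →ₗ[R] IsLocalRing.ResidueField R ⊗[R] F :=
      (Ideal.Quotient.factorₐ R (le_sup_left : J ≤ J ⊔ SGA3b.torsionIdeal R A N)).toLinearMap.lTensor _
    obtain ⟨w, rfl⟩ := LinearMap.lTensor_surjective _
      (show Function.Surjective (Ideal.Quotient.factorₐ R
        (le_sup_left : J ≤ J ⊔ SGA3b.torsionIdeal R A N)).toLinearMap from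
        Ideal.Quotient.factor_surjective le_sup_left) z
    have hw : w ∈ Submodule.span R (Set.range s) := by rw [hs']; trivial
    change τ w ∈ _
    induction hw using Submodule.span_induction with
    | mem x hx =>
      obtain ⟨i, rfl⟩ := hx
      exact ⟨π (b i), ⟨b i, Submodule.subset_span ⟨i, rfl⟩, rfl⟩, by rw [← hb i]; rfl⟩
    | zero => rw [map_zero]; exact Submodule.zero_mem _
    | add x y _ _ hx hy => rw [map_add]; exact Submodule.add_mem _ hx hy
    | smul r x _ hx => rw [map_smul]; exact Submodule.smul_mem _ _ hx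
  rw [eq_top_iff]
  intro a _
  obtain ⟨v, hv, hva⟩ : π a ∈ (Submodule.span R (Set.range b)).map π := by rw [hpi]; trivial
  rw [← add_sub_cancel v a]
  refine Submodule.add_mem_sup hv ?_
  exact Ideal.Quotient.eq.1 hva.symm

/-- Bound on sets of torsion points in all fibres. -/
theorem card_le_of_torsion {d : ℕ} {b : Fin d → A}
    (hb : ∀ N : ℕ, 0 < N →
      Submodule.span R (Set.range b) ⊔ (J ⊔ SGA3b.torsionIdeal R A N).restrictScalars R = ⊤)
    {K : Type u} [Field K] [Algebra R K] {N : ℕ} (hN : 0 < N) {r : ℕ}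
    (z : Fin r → WithConv (A →ₐ[R] K)) (hz : Function.Injective z) (hJ : ∀ i, Kills J (z i))
    (hT : ∀ i, z i ^ N = 1) : r ≤ d := by
  classical
  have hli : LinearIndependent K (fun i => fun t : Fin d => (z i).ofConv (b t)) := by
    rw [Fintype.linearIndependent_iff]
    intro c hc
    have hall : ∀ a : A, ∑ i, c i * (z i).ofConv a = 0 := by
      intro a
      have ha : a ∈ Submodule.span R (Set.range b) ⊔ (J ⊔ SGA3b.torsionIdeal R A N).restrictScalars R := by
        rw [hb N hN]; trivial
      obtain ⟨v, hv, w, hw, rfl⟩ := Submodule.mem_sup.1 ha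
      have hw0 : ∀ i, (z i).ofConv w = 0 := fun i => by
        obtain ⟨j, hj, t, ht, rfl⟩ := Submodule.mem_sup.1 (show w ∈ J ⊔ SGA3b.torsionIdeal R A N from hw)
        rw [map_add, hJ i j hj, (kills_torsion_iff (z i) N).2 (hT i) t ht, add_zero]
      simp only [map_add, hw0, add_zero]
      clear hw0 ha
      induction hv using Submodule.span_induction with
      | mem x hx =>
        obtain ⟨t, rfl⟩ := hx
        simpa using congrFun hc t
      | zero => simp
      | add x y _ _ hx hy => simp only [map_add, mul_add, Finset.sum_add_distrib, hx, hy, add_zero]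
      | smul r x _ hx =>
        simp only [map_smul, mul_smul_comm, ← Finset.smul_sum, hx, smul_zero]
    have hinj : Function.Injective fun i : Fin r => ((z i).ofConv.toRingHom.toMonoidHom : A →* K) :=
      fun i j hij => hz (ofConv_injective (AlgHom.ext fun a => DFunLike.congr_fun hij a))
    have h2 := Fintype.linearIndependent_iff.1 ((linearIndependent_monoidHom A K).comp _ hinj) c
      (funext fun a => by simpa using hall a)
    exact h2
  have := hli.fintype_card_le_finrank
  simpa using this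

/-- Every point of a subgroup with finite closed fibre is killed by `d!`. -/
theorem pow_factorial_eq_one [J.IsHopfIdeal R] (hft : Algebra.FiniteType R A) (h : SGA3b.IsMultType R A)
    {d : ℕ} {b : Fin d → A}
    (hb : ∀ N : ℕ, 0 < N →
      Submodule.span R (Set.range b) ⊔ (J ⊔ SGA3b.torsionIdeal R A N).restrictScalars R = ⊤)
    {K : Type u} [Field K] [IsAlgClosed K] [Algebra R K] (y : WithConv (A →ₐ[R] K))
    (hy : Kills J y) : y ^ d.factorial = 1 := by
  classical
  obtain ⟨M, _, ⟨e⟩⟩ := isDiag_algClosed hft h K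
  haveI := MultTypeLib.group_fg_of_diag hft e
  obtain ⟨χ, rfl⟩ := pt_surjective e y
  have hpow : ∀ j : ℕ, Kills J (pt e (χ ^ j)) := fun j => by rw [pt_pow]; exact hy.pow j
  have bound : ∀ ψ : M →* Kˣ, (∀ j : ℕ, Kills J (pt e (ψ ^ j))) → IsOfFinOrder ψ → orderOf ψ ≤ d := by
    intro ψ hψ hfin
    have hpos := hfin.orderOf_pos
    refine card_le_of_torsion hb hpos (fun i : Fin (orderOf ψ) => pt e (ψ ^ (i : ℕ))) ?_ (fun i => hψ i) ?_
    · intro i j hij
      exact Fin.ext (pow_injOn_Iio_orderOf i.2 j.2 (pt_injective e hij))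
    · intro i
      rw [← pt_pow, show (ψ ^ (i : ℕ)) ^ orderOf ψ = 1 from MonoidHom.ext fun m => by
        rw [MonoidHom.pow_apply, MonoidHom.pow_apply, ← pow_mul, mul_comm, pow_mul,
          ← MonoidHom.pow_apply, pow_orderOf_eq_one, MonoidHom.one_apply, one_pow], pt_one]
  by_cases hfin : IsOfFinOrder χ
  · rw [← pt_pow, orderOf_dvd_iff_pow_eq_one.1
      (Nat.dvd_factorial hfin.orderOf_pos (bound χ hpow hfin)), pt_one]
  exfalso
  haveI : Group.FG χ.range := Group.fg_of_surjective χ.rangeRestrict_surjective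
  obtain ⟨ι, κ, _, _, p, hp, ex, ⟨E⟩⟩ := CommGroup.equiv_free_prod_prod_multiplicative_zmod χ.range
  haveI : ∀ i, NeZero (p i ^ ex i) := fun i => ⟨pow_ne_zero _ (hp i).ne_zero⟩
  rcases isEmpty_or_nonempty κ with hκ | ⟨⟨k⟩⟩
  · apply hfin
    haveI : Finite χ.range := Finite.of_equiv _ E.symm.toEquiv
    refine isOfFinOrder_iff_pow_eq_one.2 ⟨Nat.card χ.range, Nat.card_pos, MonoidHom.ext fun m => ?_⟩
    rw [MonoidHom.pow_apply]
    exact congrArg Subtype.val (pow_card_eq_one' (x := χ.rangeRestrict m))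
  obtain ⟨q, hqle, hq⟩ := Nat.exists_infinite_primes (max (d + 1) (ringChar K + 1))
  haveI := Fact.mk hq
  have hqK : (q : K) ≠ 0 := by
    intro h0
    have hdvd := (ringChar.spec K q).1 h0
    rcases (Nat.dvd_prime hq).1 hdvd with h1 | h1
    · exact CharP.ringChar_ne_one h1
    · omega
  haveI : NeZero (q : K) := ⟨hqK⟩
  obtain ⟨ζ, hζ⟩ := HasEnoughRootsOfUnity.exists_primitiveRoot K q
  have hζu := hζ.isUnit (NeZero.ne q)
  let ev : χ.range →* Kˣ := ((zpowersHom Kˣ hζu.unit).comp (Pi.evalMonoidHom _ k)).comp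
    ((MonoidHom.fst _ _).comp E.toMonoidHom)
  let ψ : M →* Kˣ := ev.comp χ.rangeRestrict
  have hkill : ∀ j : ℕ, Kills J (pt e (ψ ^ j)) := fun j =>
    kills_of_factor e χ (ψ ^ j) hpow
      (fun u => if hu : u ∈ χ.range then ev ⟨u, hu⟩ ^ j else 1) fun m => by
        rw [MonoidHom.pow_apply, dif_pos ⟨m, rfl⟩]
        rfl
  have hq1 : ψ ^ q = 1 := MonoidHom.ext fun m => by
    rw [MonoidHom.pow_apply]
    show ((zpowersHom Kˣ hζu.unit) _) ^ q = 1
    rw [zpowersHom_apply, ← zpow_natCast, zpow_comm, zpow_natCast,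
      show hζu.unit ^ q = 1 from Units.ext (by simpa using hζ.pow_eq_one), one_zpow]
  have hne : ψ ≠ 1 := by
    intro h1
    obtain ⟨m, hm⟩ := χ.rangeRestrict_surjective (E.symm (Pi.mulSingle k (Multiplicative.ofAdd 1), 1))
    have h2 : (ψ m : Kˣ) = 1 := by rw [h1]; rfl
    have h3 : ψ m = hζu.unit := by
      show ev (χ.rangeRestrict m) = _
      rw [hm]
      simp [ev]
    rw [h3] at h2
    exact hζ.ne_one hq.one_lt (by simpa using congrArg Units.val h2)
  have hb' := bound ψ hkill (isOfFinOrder_iff_pow_eq_one.2 ⟨q, hq.pos, hq1⟩)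
  rw [orderOf_eq_prime hq1 hne] at hb'
  omega

end Groth.Agent.MTSub29
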