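import Groth.Agent.Lib.MTSub29.Conv
import Mathlib.Algebra.TrivSqZeroExt.Basic
import Mathlib.Data.Nat.Factorial.Basic
import Mathlib.Algebra.CharZero.Defs

/-!
# Tangent vectors of subgroups killed by a nilpotent thickening in characteristic zero
-/

universe u

set_option autoImplicit false
set_option linter.style.haveILetI false

open TensorProduct WithConv Coalgebra

attribute [-simp] DualNumber.inr_eq_smul_eps

namespace Groth.Agent.MTSub29

variable {R : Type u} [CommRing R] {A : Type u} [CommRing A] [HopfAlgebra R A]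
  {K : Type u} [Field K] [Algebra R K] (δ : A →ₗ[R] K)

/-- A derivation at the unit. -/
def IsTangent : Prop :=
  ∀ a b, δ (a * b) = algebraMap R K (counit a) * δ b + algebraMap R K (counit b) * δ a

variable {δ}

theorem IsTangent.map_one (h : IsTangent δ) : δ 1 = 0 := by
  have := h 1 1
  simpa using this

theorem IsTangent.map_algebraMap (h : IsTangent δ) (r : R) : δ (algebraMap R A r) = 0 := by
  rw [Algebra.algebraMap_eq_smul_one, map_smul, h.map_one, smul_zero]

theorem IsTangent.map_aug_sq (h : IsTangent δ) {x : A} (hx : x ∈ aug R A ^ 2) : δ x = 0 := by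
  rw [pow_two] at hx
  refine Submodule.mul_induction_on hx (fun a ha b hb => ?_) fun a b ha hb => by rw [map_add, ha, hb, add_zero]
  rw [h, show counit a = (0 : R) from ha, show counit b = (0 : R) from hb]
  simp

/-- The point of a square-zero extension attached to a tangent vector. -/
noncomputable def tanPt (h : IsTangent δ) (Q : Type u) [CommRing Q] [Algebra R Q] [Algebra K Q]
    [IsScalarTower R K Q] : A →ₐ[R] TrivSqZeroExt Q Q :=
  { toFun := fun a => TrivSqZeroExt.inl (algebraMap R Q (counit a)) +
        TrivSqZeroExt.inr (algebraMap K Q (δ a))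
    map_one' := by simp [h.map_one]
    map_mul' := fun a b => by
      ext
      · simp
      · simp [h a b, ← IsScalarTower.algebraMap_apply R K Q, map_mul, map_add]
        ring
    map_zero' := by simp
    map_add' := fun a b => by ext <;> simp
    commutes' := fun r => by
      ext
      · simp [TrivSqZeroExt.algebraMap_eq_inl']
      · simp [h.map_algebraMap, TrivSqZeroExt.algebraMap_eq_inl'] }

theorem tanPt_apply (h : IsTangent δ) (Q : Type u) [CommRing Q] [Algebra R Q] [Algebra K Q]
    [IsScalarTower R K Q] (a : A) : tanPt h Q a = TrivSqZeroExt.inl (algebraMap R Q (counit a)) +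
      TrivSqZeroExt.inr (algebraMap K Q (δ a)) := rfl

/-- Iterated tangent points. -/
theorem exists_iterate {J : Ideal A} [J.IsHopfIdeal R] (h : IsTangent δ) (hJ : ∀ x ∈ J, δ x = 0) :
    ∀ j : ℕ, ∃ (Q : Type u) (_ : CommRing Q) (_ : Algebra R Q) (_ : Algebra K Q)
      (_ : IsScalarTower R K Q) (f : WithConv (A →ₐ[R] Q)) (T : Q),
      Kills J f ∧ (∀ x ∈ aug R A ^ (j + 1), f.ofConv x = 0) ∧
      (∀ b ∈ aug R A, f.ofConv b ^ j = algebraMap K Q ((j.factorial : K) * δ b ^ j) * T) ∧
      ∀ c : K, algebraMap K Q c * T = 0 → c = 0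
  | 0 => ⟨K, inferInstance, inferInstance, inferInstance, inferInstance, 1, 1, kills_one,
      fun x hx => by
        rw [zero_add, pow_one] at hx
        show algebraMap R K (counit x) = 0
        rw [show counit x = (0 : R) from hx, _root_.map_zero],
      fun b _ => by simp, fun c hc => by simpa using hc⟩
  | j + 1 => by
    obtain ⟨Q, _, _, _, _, f, T, hk, hpow, hf, hT⟩ := exists_iterate h hJ j
    let F₁ : A →ₐ[R] (TrivSqZeroExt Q Q) := (TrivSqZeroExt.inlAlgHom R Q Q).comp f.ofConv
    let F₂ : A →ₐ[R] (TrivSqZeroExt Q Q) := tanPt h Q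
    let X : A → Q := fun a =>
      let r := Coalgebra.Repr.arbitrary R a
      ∑ i ∈ r.index, f.ofConv (r.left i) * algebraMap K Q (δ (r.right i))
    have hF : ∀ a, (toConv F₁ * toConv F₂).ofConv a =
        TrivSqZeroExt.inl (f.ofConv a) + TrivSqZeroExt.inr (X a) := fun a => by
      let r := Coalgebra.Repr.arbitrary R a
      have e0 : (toConv F₁ * toConv F₂).ofConv a = ∑ i ∈ r.index, F₁ (r.left i) * F₂ (r.right i) := by
        show (toConv F₁ * toConv F₂) a = _
        rw [AlgHom.convMul_apply, ← r.eq, map_sum]
        exact Finset.sum_congr rfl fun i _ => Algebra.TensorProduct.lift_tmul ..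
      have e1 : f.ofConv a = ∑ i ∈ r.index, f.ofConv (r.left i) * algebraMap R Q (counit (r.right i)) := by
        have h1 := congrArg (Algebra.TensorProduct.lift f.ofConv (Algebra.ofId R Q) (fun _ _ => Commute.all _ _))
          (sum_tmul_counit_eq r)
        rw [map_sum] at h1
        simp only [Algebra.TensorProduct.lift_tmul, Algebra.ofId_apply, _root_.map_one, mul_one] at h1
        exact h1.symm
      rw [e0]
      ext
      · rw [TrivSqZeroExt.fst_sum]
        simp [F₁, F₂, tanPt_apply, ← e1]
      · rw [TrivSqZeroExt.snd_sum]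
        simp [F₁, F₂, tanPt_apply, X, r]
    have hX : ∀ (b : A) (y : A), y ∈ aug R A ^ j → b ∈ aug R A →
        f.ofConv y * X b = f.ofConv y * algebraMap K Q (δ b) := by
      intro b y hy hb
      let r := Coalgebra.Repr.arbitrary R b
      have e2 : δ b = ∑ i ∈ r.index, algebraMap R K (counit (r.left i)) * δ (r.right i) := by
        have h1 := congrArg (LinearMap.mul' R K ∘ₗ TensorProduct.map (Algebra.linearMap R K) δ)
          (sum_counit_tmul_eq r)
        rw [map_sum] at h1
        simpa using h1.symm
      show f.ofConv y * ∑ i ∈ r.index, f.ofConv (r.left i) * algebraMap K Q (δ (r.right i)) = _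
      rw [e2, map_sum, Finset.mul_sum, Finset.mul_sum]
      refine Finset.sum_congr rfl fun i _ => ?_
      have h0 := hpow (y * (r.left i - algebraMap R A (counit (r.left i)))) (by
        rw [pow_succ]
        exact Ideal.mul_mem_mul hy (by simp [aug, RingHom.mem_ker]))
      rw [map_mul, map_sub, AlgHom.commutes, mul_sub, sub_eq_zero] at h0
      rw [← mul_assoc, h0, map_mul, ← IsScalarTower.algebraMap_apply R K Q, mul_assoc]
    have hXmul : ∀ u v, X (u * v) = f.ofConv u * X v + f.ofConv v * X u := fun u v => by
      have h1 := hF (u * v)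
      rw [map_mul, hF, hF] at h1
      have h2 := congrArg TrivSqZeroExt.snd h1
      simp [TrivSqZeroExt.snd_mul] at h2
      linear_combination -h2
    have hXadd : ∀ u v, X (u + v) = X u + X v := fun u v => by
      have h1 := hF (u + v)
      rw [map_add, hF, hF] at h1
      have h2 := congrArg TrivSqZeroExt.snd h1
      simpa using h2.symm
    have hkill : ∀ (m k : ℕ), j + 2 ≤ k + (m + 1) → ∀ a ∈ aug R A ^ (m + 1), ∀ y ∈ aug R A ^ k,
        f.ofConv y * X a = 0 := by
      intro m
      induction m with
      | zero =>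
        intro k hk a _ y hy
        rw [hpow y (Ideal.pow_le_pow_right (by omega) hy), zero_mul]
      | succ m ih =>
        intro k hk a ha y hy
        rw [pow_succ] at ha
        refine Submodule.mul_induction_on ha (fun u hu v hv => ?_)
          (fun u v hu hv => by rw [hXadd, mul_add, hu, hv, add_zero])
        rw [hXmul, mul_add, ← mul_assoc, ← mul_assoc, ← map_mul, ← map_mul,
          hpow (y * u) (Ideal.pow_le_pow_right (show j + 1 ≤ k + (m + 1) by omega)
            (by rw [pow_add]; exact Ideal.mul_mem_mul hy hu)), zero_mul, zero_add]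
        exact ih (k + 1) (by omega) u hu _ (by rw [pow_succ]; exact Ideal.mul_mem_mul hy hv)
    have hle : aug R A ^ (j + 1 + 1) ≤ RingHom.ker (toConv F₁ * toConv F₂).ofConv := by
      rw [pow_succ]
      refine Ideal.mul_le.2 fun a ha b hb => ?_
      rw [RingHom.mem_ker, map_mul, hF, hF, hpow a ha]
      have hz := hkill j 1 (by omega) a ha b (by rwa [pow_one])
      ext <;> simp [TrivSqZeroExt.snd_mul, mul_comm (X a), hz]
    refine ⟨(TrivSqZeroExt Q Q), inferInstance, inferInstance, inferInstance, inferInstance, toConv F₁ * toConv F₂,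
      TrivSqZeroExt.inr T, ?_, fun x hx => hle hx, fun b hb => ?_, fun c hc => ?_⟩
    · refine Kills.mul (fun x hx => ?_) fun x hx => ?_
      · show TrivSqZeroExt.inl (f.ofConv x) = (0 : (TrivSqZeroExt Q Q))
        rw [hk x hx, TrivSqZeroExt.inl_zero]
      · show tanPt h Q x = 0
        simp [tanPt_apply, hJ x hx, show counit x = (0 : R) from le_aug J hx]
    · rw [hF]
      have h1 : f.ofConv b ^ (j + 1) = 0 := by
        rw [← map_pow]; exact hpow _ (Ideal.pow_mem_pow hb _)
      have h2 : f.ofConv b ^ j * X b = algebraMap K Q ((j.factorial : K) * δ b ^ (j + 1)) * T := by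
        rw [← map_pow, hX b _ (Ideal.pow_mem_pow hb _) hb, map_pow, hf b hb, mul_right_comm, ← map_mul,
          pow_succ, mul_assoc (j.factorial : K)]
      ext
      · simp [h1]
      · rw [TrivSqZeroExt.snd_pow]
        simp only [TrivSqZeroExt.fst_add, TrivSqZeroExt.fst_inl, TrivSqZeroExt.fst_inr, add_zero,
          TrivSqZeroExt.snd_add, TrivSqZeroExt.snd_inl, TrivSqZeroExt.snd_inr, zero_add, Nat.pred_eq_sub_one,
          add_tsub_cancel_right, smul_eq_mul, h2]
        simp [TrivSqZeroExt.algebraMap_eq_inl', Nat.factorial_succ, Algebra.smul_def]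
        ring
    · refine hT c ?_
      have h3 := congrArg TrivSqZeroExt.snd hc
      simpa [TrivSqZeroExt.algebraMap_eq_inl'] using h3

end Groth.Agent.MTSub29
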