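import Groth.Agent.Lib.MTSub29.Points
import Groth.Agent.Lib.MTSub29.Tangent
import Mathlib.RingTheory.LocalRing.ResidueField.Ideal
import Mathlib.RingTheory.Support
import Mathlib.RingTheory.Nakayama

/-!
# Closed subgroups of multiplicative type groups with finite closed fibre lie in a torsion subgroup
-/

universe u

set_option autoImplicit false
set_option linter.style.haveILetI false

open TensorProduct WithConv Coalgebra

namespace Groth.Agent.MTSub29

variable {R : Type u} [CommRing R] {A : Type u} [CommRing A] [HopfAlgebra R A]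

theorem mem_aug_sub (a : A) : a - algebraMap R A (counit a) ∈ aug R A := by
  simp [aug, RingHom.mem_ker]

theorem exists_gens (hft : Algebra.FiniteType R A) :
    ∃ s : Finset A, (aug R A).FG ∧ ∀ a : A, a - algebraMap R A (counit a) ∈
      (Submodule.span R (s : Set A) ⊔ (aug R A ^ 2).restrictScalars R) := by
  classical
  obtain ⟨g, hg⟩ := hft.out
  let s := g.image fun a => a - algebraMap R A (counit a)
  have h1 : ∀ a : A, a - algebraMap R A (counit a) ∈
      (Submodule.span R (s : Set A) ⊔ (aug R A ^ 2).restrictScalars R) := by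
    intro a
    have ha : a ∈ Algebra.adjoin R (g : Set A) := by rw [hg]; trivial
    induction ha using Algebra.adjoin_induction with
    | mem x hx =>
      exact Submodule.mem_sup_left (Submodule.subset_span (Finset.mem_image_of_mem _ hx))
    | algebraMap r => simp
    | add x y _ _ hx hy =>
      have e : x + y - algebraMap R A (counit (x + y)) =
          (x - algebraMap R A (counit x)) + (y - algebraMap R A (counit y)) := by
        rw [map_add, map_add]; ring
      rw [e]; exact Submodule.add_mem _ hx hy
    | mul x y _ _ hx hy =>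
      have e : x * y - algebraMap R A (counit (x * y)) =
          (counit (R := R) x) • (y - algebraMap R A (counit y)) +
          (counit (R := R) y) • (x - algebraMap R A (counit x)) +
          (x - algebraMap R A (counit x)) * (y - algebraMap R A (counit y)) := by
        rw [Bialgebra.counit_mul, map_mul, Algebra.smul_def, Algebra.smul_def]; ring
      rw [e]
      refine Submodule.add_mem _ (Submodule.add_mem _ (Submodule.smul_mem _ _ hy) (Submodule.smul_mem _ _ hx))
        (Submodule.mem_sup_right ?_)
      show _ ∈ aug R A ^ 2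
      rw [pow_two]
      exact Ideal.mul_mem_mul (mem_aug_sub x) (mem_aug_sub y)
  refine ⟨s, ⟨s, le_antisymm (Submodule.span_le.2 fun x hx => ?_) fun a ha => ?_⟩, h1⟩
  · obtain ⟨y, -, rfl⟩ := Finset.mem_image.1 hx
    exact mem_aug_sub y
  · suffices ∀ b : A, b - algebraMap R A (counit b) ∈ Ideal.span (s : Set A) by
      simpa [show counit a = (0 : R) from ha] using this a
    intro b
    have hb : b ∈ Algebra.adjoin R (g : Set A) := by rw [hg]; trivial
    induction hb using Algebra.adjoin_induction with
    | mem x hx => exact Ideal.subset_span (Finset.mem_image_of_mem _ hx)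
    | algebraMap r => simp
    | add x y _ _ hx hy =>
      have e : x + y - algebraMap R A (counit (x + y)) =
          (x - algebraMap R A (counit x)) + (y - algebraMap R A (counit y)) := by
        rw [map_add, map_add]; ring
      rw [e]; exact Ideal.add_mem _ hx hy
    | mul x y _ _ hx hy =>
      have e : x * y - algebraMap R A (counit (x * y)) =
          x * (y - algebraMap R A (counit y)) +
          algebraMap R A (counit y) * (x - algebraMap R A (counit x)) := by
        rw [Bialgebra.counit_mul, map_mul]; ring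
      rw [e]; exact Ideal.add_mem _ (Ideal.mul_mem_left _ _ hy) (Ideal.mul_mem_left _ _ hx)

theorem torsion_fg (hft : Algebra.FiniteType R A) (n : ℕ) : (SGA3b.torsionIdeal R A n).FG := by
  obtain ⟨s, hfg, -⟩ := exists_gens hft
  exact Ideal.FG.map hfg (SGA3b.powConv R A n).toRingHom

variable {J : Ideal A}

/-- If all field points of `J` are killed by `n`, then the `n`-torsion ideal is nilpotent modulo `J`. -/
theorem exists_torsion_pow_le (hft : Algebra.FiniteType R A) {n : ℕ}
    (h : ∀ (K : Type u) [Field K] [IsAlgClosed K] [Algebra R K] (y : WithConv (A →ₐ[R] K)),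
      Kills J y → y ^ n = 1) : ∃ k, SGA3b.torsionIdeal R A n ^ k ≤ J := by
  refine Ideal.exists_pow_le_of_le_radical_of_fg ?_ (torsion_fg hft n)
  rw [Ideal.radical_eq_sInf]
  refine le_sInf fun P hP => ?_
  obtain ⟨hJP, hPp⟩ := hP
  haveI := hPp
  let K := AlgebraicClosure P.ResidueField
  let y : A →ₐ[R] K := (Algebra.ofId A K).restrictScalars R
  have hy : ∀ x : A, y x = 0 ↔ x ∈ P := fun x => by
    show algebraMap A K x = 0 ↔ _
    rw [IsScalarTower.algebraMap_apply A P.ResidueField K, map_eq_zero,
      Ideal.algebraMap_residueField_eq_zero]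
  have h2 := (kills_torsion_iff (toConv y) n).2 (h K (toConv y) fun x hx => (hy x).2 (hJP hx))
  exact fun x hx => (hy x).1 (h2 x hx)

variable [IsLocalRing R]

theorem exists_unit_or_prime : ∃ q : ℕ, 0 < q ∧ ∀ (P : Ideal R) [P.IsPrime], (q : R) ∉ P →
    CharZero P.ResidueField := by
  let c := ringChar (IsLocalRing.ResidueField R)
  refine ⟨if c = 0 then 1 else c, by split <;> omega, fun P _ hP => ?_⟩
  refine charZero_of_inj_zero fun m hm => ?_
  by_contra hm0
  rw [← map_natCast (algebraMap R P.ResidueField), Ideal.algebraMap_residueField_eq_zero] at hm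
  obtain ⟨l, hl, hlP⟩ : ∃ l : ℕ, l.Prime ∧ (l : R) ∈ P := by
    induction m using Nat.recOnMul with
    | zero => exact absurd rfl hm0
    | one => exact absurd (by simpa using hm) (fun h => ‹P.IsPrime›.ne_top ((Ideal.eq_top_iff_one P).2 h))
    | prime l hl => exact ⟨l, hl, hm⟩
    | mul a b ha hb =>
      rw [Nat.cast_mul] at hm
      rcases ‹P.IsPrime›.mem_or_mem hm with h | h
      · exact ha h (fun h0 => hm0 (by simp [h0]))
      · exact hb h (fun h0 => hm0 (by simp [h0]))
  have hl0 : (l : IsLocalRing.ResidueField R) = 0 := by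
    rw [← map_natCast (IsLocalRing.residue R), IsLocalRing.residue_eq_zero_iff]
    exact IsLocalRing.le_maximalIdeal (Ideal.IsPrime.ne_top ‹_›) hlP
  have hdvd : c ∣ l := (ringChar.spec _ l).1 hl0
  rcases (Nat.dvd_prime hl).1 hdvd with h | h
  · exact CharP.ringChar_ne_one h
  · exact hP (by rw [if_neg (h ▸ hl.ne_zero), h]; exact hlP)

variable [J.IsHopfIdeal R]

/-- The cotangent space of `J` at the unit is killed by a power of the residual characteristic. -/
theorem exists_pow_mul_mem (hft : Algebra.FiniteType R A) {n : ℕ} (hn : 0 < n) {k : ℕ}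
    (hk : SGA3b.torsionIdeal R A n ^ k ≤ J) {q : ℕ}
    (hq : ∀ (P : Ideal R) [P.IsPrime], (q : R) ∉ P → CharZero P.ResidueField) :
    ∃ c, ∀ x ∈ aug R A, (q : A) ^ c * x ∈ J ⊔ aug R A ^ 2 := by
  classical
  obtain ⟨s, -, hs⟩ := exists_gens hft
  let N := J ⊔ aug R A ^ 2
  let π : A →ₗ[R] A ⧸ N := (Ideal.Quotient.mkₐ R N).toLinearMap
  let C : Submodule R (A ⧸ N) := ((aug R A).restrictScalars R).map π
  have hCfg : C.FG := by
    refine ⟨s.image fun a => π (a - algebraMap R A (counit a)), le_antisymm (Submodule.span_le.2 fun x hx => ?_)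
      fun x hx => ?_⟩
    · obtain ⟨a, -, rfl⟩ := Finset.mem_image.1 hx
      exact ⟨_, mem_aug_sub a, rfl⟩
    · obtain ⟨a, ha, rfl⟩ := hx
      obtain ⟨u, hu, v, hv, huv⟩ := Submodule.mem_sup.1 (hs a)
      rw [show counit a = (0 : R) from ha, map_zero, sub_zero] at huv
      have hv0 : π v = 0 := Ideal.Quotient.eq_zero_iff_mem.2 (Ideal.mem_sup_right hv)
      have hmap : ∀ w ∈ Submodule.span R (s : Set A), π (w - algebraMap R A (counit w)) ∈
          Submodule.span R ((s.image fun a => π (a - algebraMap R A (counit a)) : Finset (A ⧸ N)) : Set (A ⧸ N)) := by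
        intro w hw
        induction hw using Submodule.span_induction with
        | mem z hz => exact Submodule.subset_span (Finset.mem_image_of_mem _ hz)
        | zero => simp
        | add z z' _ _ hz hz' =>
          have e : z + z' - algebraMap R A (counit (z + z')) =
              (z - algebraMap R A (counit z)) + (z' - algebraMap R A (counit z')) := by
            rw [map_add, map_add]; ring
          rw [e, map_add]; exact Submodule.add_mem _ hz hz'
        | smul r z _ hz =>
          have e : r • z - algebraMap R A (counit (r • z)) = r • (z - algebraMap R A (counit z)) := by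
            rw [smul_sub, map_smul, Algebra.smul_def r (algebraMap R A _), smul_eq_mul, map_mul]
          rw [e, map_smul]; exact Submodule.smul_mem _ _ hz
      have hu0 : counit (R := R) u = 0 := by
        have hv' : counit (R := R) v = 0 := (Ideal.pow_le_self two_ne_zero : aug R A ^ 2 ≤ aug R A) hv
        have := congrArg (counit (R := R)) huv
        rw [map_add, hv', add_zero] at this
        exact this.trans ha
      have := hmap u hu
      rw [hu0, map_zero, sub_zero] at this
      rw [← huv, map_add, hv0, add_zero]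
      exact this
  haveI : Module.Finite R C := Module.Finite.of_fg hCfg
  suffices (q : R) ∈ (Module.annihilator R C).radical by
    obtain ⟨c, hc⟩ := this
    refine ⟨c, fun x hx => ?_⟩
    have h0 := congrArg Subtype.val (Module.mem_annihilator.1 hc ⟨π x, x, hx, rfl⟩)
    rw [← Ideal.Quotient.eq_zero_iff_mem]
    refine Eq.trans ?_ h0
    show Ideal.Quotient.mk N _ = (q : R) ^ c • π x
    rw [Algebra.smul_def, map_pow, map_natCast, map_mul, map_pow, map_natCast]
    rfl
  rw [Ideal.radical_eq_sInf, Submodule.mem_sInf]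
  rintro P ⟨hann, hP⟩
  by_contra hqP
  haveI := hP
  haveI := hq P hqP
  let K := Ideal.ResidueField P
  have hsupp : (⟨P, hP⟩ : PrimeSpectrum R) ∈ Module.support R C := by
    rw [Module.support_eq_zeroLocus]; exact hann
  rw [Module.mem_support_iff_nontrivial_residueField_tensorProduct] at hsupp
  obtain ⟨z, hz⟩ := exists_ne (0 : K ⊗[R] C)
  obtain ⟨φ, hφ⟩ := Module.Projective.exists_dual_ne_zero K hz
  let φ' : C →ₗ[R] K := (φ.restrictScalars R).comp (TensorProduct.mk R K C 1)
  apply hφ
  suffices hall : ∀ x : C, φ' x = 0 by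
    clear hφ hz
    induction z using TensorProduct.induction_on with
    | zero => exact map_zero φ
    | tmul t x =>
      rw [show t ⊗ₜ[R] x = t • ((1 : K) ⊗ₜ[R] x) by rw [TensorProduct.smul_tmul', smul_eq_mul, mul_one],
        map_smul]
      rw [show φ ((1 : K) ⊗ₜ[R] x) = φ' x from rfl, hall, smul_zero]
    | add a b ha hb => rw [map_add, ha, hb, add_zero]
  intro x
  let pr : A →ₗ[R] C := LinearMap.codRestrict C
    (π.comp (LinearMap.id - (Algebra.linearMap R A).comp (Coalgebra.counit (R := R) (A := A))))
    fun a => ⟨_, mem_aug_sub a, rfl⟩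
  let δ : A →ₗ[R] K := φ'.comp pr
  have hδ : IsTangent δ := by
    intro a b
    have e : pr (a * b) = counit (R := R) a • pr b + counit (R := R) b • pr a := by
      apply Subtype.ext
      show π (a * b - algebraMap R A (counit (a * b))) =
        counit (R := R) a • π (b - algebraMap R A (counit b)) + counit (R := R) b • π (a - algebraMap R A (counit a))
      rw [← map_smul, ← map_smul, ← map_add]
      refine Ideal.Quotient.eq.2 (Ideal.mem_sup_right ?_)
      rw [Bialgebra.counit_mul, Algebra.smul_def, Algebra.smul_def, map_mul, pow_two]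
      have := Ideal.mul_mem_mul (mem_aug_sub (R := R) a) (mem_aug_sub (R := R) b)
      convert this using 1
      ring
    show φ' (pr (a * b)) = _
    rw [e, map_add, map_smul, map_smul, Algebra.smul_def, Algebra.smul_def]
    rfl
  have hδJ : ∀ a ∈ J, δ a = 0 := fun a ha => by
    have : pr a = 0 := Subtype.ext (by
      show π (a - algebraMap R A (counit a)) = 0
      rw [show counit a = (0 : R) from le_aug J ha, map_zero, sub_zero]
      exact Ideal.Quotient.eq_zero_iff_mem.2 (Ideal.mem_sup_left ha))
    show φ' (pr a) = 0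
    rw [this, map_zero]
  obtain ⟨⟨_, a, ha, rfl⟩, rfl⟩ : ∃ y : C, y = x := ⟨x, rfl⟩
  have hxa : φ' ⟨π a, a, ha, rfl⟩ = δ a := by
    refine congrArg φ' (Subtype.ext ?_)
    show π a = π (a - algebraMap R A (counit a))
    rw [show counit a = (0 : R) from ha, map_zero, sub_zero]
  rw [hxa]
  obtain ⟨Q, _, _, _, _, f, T, hkill, -, hf, hT⟩ := exists_iterate hδ hδJ k
  let b := SGA3b.powConv R A n a
  have hbI : b ∈ aug R A := torsion_le_aug n (Ideal.mem_map_of_mem _ ha)
  have h0 : f.ofConv (b ^ k) = 0 := hkill _ (hk (Ideal.pow_mem_pow (Ideal.mem_map_of_mem _ ha) k))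
  rw [map_pow, hf b hbI] at h0
  have h1 := (mul_eq_zero.1 (hT _ h0)).resolve_left (Nat.cast_ne_zero.2 k.factorial_ne_zero)
  have h2 : δ b = (n : K) * δ a := by
    have h3 := hδ.map_aug_sq (powConv_sub_mem n ha)
    rw [map_sub, sub_eq_zero] at h3
    rw [h3, show (n : A) * a = (n : R) • a by rw [Algebra.smul_def, map_natCast], map_smul,
      Algebra.smul_def, map_natCast]
  rw [h2] at h1
  exact (mul_eq_zero.1 (pow_eq_zero_iff'.1 h1).1).resolve_left (Nat.cast_ne_zero.2 hn.ne')

/-- Some torsion ideal lies in `J`. -/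
theorem exists_torsion_le (hft : Algebra.FiniteType R A) {n : ℕ} (hn : 0 < n) {k : ℕ}
    (hk : SGA3b.torsionIdeal R A n ^ k ≤ J) : ∃ m, 0 < m ∧ SGA3b.torsionIdeal R A m ≤ J := by
  obtain ⟨q, hq0, hq⟩ := exists_unit_or_prime (R := R)
  obtain ⟨c, hc⟩ := exists_pow_mul_mem hft hn hk hq
  set T := SGA3b.torsionIdeal R A n
  let S := Ideal.span {((q : A) ^ c)}
  have hJmap : J.map (SGA3b.powConv R A n) ≤ J :=
    Ideal.map_le_iff_le_comap.2 fun x hx => powConv_mem hx n
  have h1 : S * T ≤ J ⊔ T ^ 2 := by
    have hle : S * aug R A ≤ J ⊔ aug R A ^ 2 := Ideal.mul_le.2 fun a ha x hx => by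
      obtain ⟨r, rfl⟩ := Ideal.mem_span_singleton'.1 ha
      rw [mul_assoc]; exact Ideal.mul_mem_left _ _ (hc x hx)
    have h := Ideal.map_mono (f := SGA3b.powConv R A n) hle
    rw [Ideal.map_mul, Ideal.map_sup, Ideal.map_pow, Ideal.map_span, Set.image_singleton, map_pow,
      map_natCast] at h
    exact h.trans (sup_le_sup_right hJmap _)
  have h2 : ∀ i, S ^ i * T ≤ J ⊔ T ^ (i + 1) := by
    intro i
    induction i with
    | zero => rw [pow_zero, one_mul, zero_add, pow_one]; exact le_sup_right
    | succ i ih =>
      rw [pow_succ', mul_assoc]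
      refine (Ideal.mul_mono le_rfl ih).trans ?_
      rw [Ideal.mul_sup, pow_succ', ← mul_assoc]
      refine sup_le (Ideal.mul_le_right.trans le_sup_left) ((Ideal.mul_mono h1 le_rfl).trans ?_)
      rw [Ideal.sup_mul, ← pow_add, show 2 + i = i + 1 + 1 by omega]
      exact sup_le_sup_right Ideal.mul_le_left _
  have hST : S ^ k * T ≤ J :=
    (h2 k).trans (sup_le le_rfl ((Ideal.pow_le_pow_right (Nat.le_succ k)).trans hk))
  let Q := Ideal.span {(q : A)}
  let G := Q ⊔ T
  have hTle : ∀ a, SGA3b.torsionIdeal R A (n * q ^ a) ≤ T := fun a =>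
    Ideal.map_le_iff_le_comap.2 fun x hx => by
      show SGA3b.powConv R A (n * q ^ a) x ∈ T
      rw [← powConv_powConv]
      exact Ideal.mem_map_of_mem _ (torsion_le_aug _ (Ideal.mem_map_of_mem _ hx))
  have h3 : ∀ a, SGA3b.torsionIdeal R A (n * q ^ a) ≤ J ⊔ G ^ a * T := by
    intro a
    induction a with
    | zero => rw [pow_zero, mul_one, pow_zero, one_mul]; exact le_sup_right
    | succ a ih =>
      rw [pow_succ, ← mul_assoc]
      refine (torsion_mul_le (n * q ^ a) q).trans ?_
      have e : Q * SGA3b.torsionIdeal R A (n * q ^ a) ⊔ SGA3b.torsionIdeal R A (n * q ^ a) ^ 2 ≤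
          G * SGA3b.torsionIdeal R A (n * q ^ a) := by
        rw [pow_two]
        exact sup_le (Ideal.mul_mono le_sup_left le_rfl)
          (Ideal.mul_mono ((hTle a).trans le_sup_right) le_rfl)
      refine e.trans ((Ideal.mul_mono le_rfl ih).trans ?_)
      rw [Ideal.mul_sup, ← mul_assoc, ← pow_succ']
      exact sup_le_sup_right Ideal.mul_le_right _
  refine ⟨n * q ^ (c * k + k), Nat.mul_pos hn (pow_pos hq0 _), (h3 _).trans (sup_le le_rfl ?_)⟩
  refine (Ideal.mul_mono Ideal.sup_pow_add_le_pow_sup_pow le_rfl).trans ?_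
  rw [Ideal.sup_mul]
  refine sup_le ?_ (Ideal.mul_le_left.trans hk)
  rw [pow_mul, Ideal.span_singleton_pow]
  exact hST

/-- A closed subgroup with finite closed fibre lies in a torsion subgroup. -/
theorem torsionIdeal_le (hft : Algebra.FiniteType R A) (h : SGA3b.IsMultType R A)
    (hs : Module.Finite (IsLocalRing.ResidueField R) (IsLocalRing.ResidueField R ⊗[R] (A ⧸ J))) :
    ∃ m, 0 < m ∧ SGA3b.torsionIdeal R A m ≤ J := by
  obtain ⟨d, b, hb⟩ := exists_span_bound hft h hs
  obtain ⟨k, hk⟩ := exists_torsion_pow_le hft (J := J) (n := d.factorial)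
    fun K _ _ _ y hy => pow_factorial_eq_one hft h hb y hy
  exact exists_torsion_le hft d.factorial_pos hk

/-- A closed subgroup with trivial closed fibre is trivial. -/
theorem eq_aug (hft : Algebra.FiniteType R A) (h : SGA3b.IsMultType R A)
    (hs : J ⊔ Ideal.map (algebraMap R A) (IsLocalRing.maximalIdeal R) =
      aug R A ⊔ Ideal.map (algebraMap R A) (IsLocalRing.maximalIdeal R)) : J = aug R A := by
  let k := IsLocalRing.ResidueField R
  set m := IsLocalRing.maximalIdeal R
  have hm0 : ∀ x ∈ Ideal.map (algebraMap R A) m, (1 : k) ⊗ₜ[R] (Ideal.Quotient.mk J x) = 0 := by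
    intro x hx
    have : Ideal.map (algebraMap R A) m ≤ RingHom.ker ((Algebra.TensorProduct.includeRight :
        A ⧸ J →ₐ[R] k ⊗[R] (A ⧸ J)).toRingHom.comp (Ideal.Quotient.mk J)) := by
      refine Ideal.map_le_iff_le_comap.2 fun r hr => ?_
      show (1 : k) ⊗ₜ[R] (algebraMap R (A ⧸ J) r) = 0
      rw [Algebra.algebraMap_eq_smul_one, ← TensorProduct.smul_tmul, Algebra.smul_def, mul_one,
        show algebraMap R k r = 0 from (IsLocalRing.residue_eq_zero_iff r).2 hr, TensorProduct.zero_tmul]
    exact this hx
  have hfin : Module.Finite k (k ⊗[R] (A ⧸ J)) := by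
    refine Module.Finite.of_surjective (LinearMap.toSpanSingleton k _ ((1 : k) ⊗ₜ[R] (1 : A ⧸ J))) fun z => ?_
    induction z using TensorProduct.induction_on with
    | zero => exact ⟨0, map_zero _⟩
    | tmul t a =>
      obtain ⟨a, rfl⟩ := Ideal.Quotient.mk_surjective a
      have h1 : a - algebraMap R A (counit a) ∈ J ⊔ Ideal.map (algebraMap R A) m := by
        rw [hs]; exact Ideal.mem_sup_left (mem_aug_sub a)
      obtain ⟨j, hj, x, hx, hjx⟩ := Submodule.mem_sup.1 h1
      refine ⟨t * algebraMap R k (counit a), ?_⟩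
      rw [LinearMap.toSpanSingleton_apply, TensorProduct.smul_tmul', smul_eq_mul, mul_one]
      have ha : Ideal.Quotient.mk J a = counit (R := R) a • (1 : A ⧸ J) + Ideal.Quotient.mk J x := by
        rw [← sub_eq_iff_eq_add', Algebra.smul_def, mul_one]
        have := congrArg (Ideal.Quotient.mk J) hjx
        rw [map_add, Ideal.Quotient.eq_zero_iff_mem.2 hj, zero_add, map_sub] at this
        exact this.symm
      rw [ha, TensorProduct.tmul_add, ← TensorProduct.smul_tmul, Algebra.smul_def, mul_comm,
        show t ⊗ₜ[R] Ideal.Quotient.mk J x = t • ((1 : k) ⊗ₜ[R] Ideal.Quotient.mk J x) by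
          rw [TensorProduct.smul_tmul', smul_eq_mul, mul_one], hm0 x hx, smul_zero, add_zero]
    | add x y hx hy =>
      obtain ⟨x, rfl⟩ := hx; obtain ⟨y, rfl⟩ := hy
      exact ⟨x + y, map_add _ _ _⟩
  obtain ⟨N, hN, hle⟩ := torsionIdeal_le hft h hfin
  haveI := finite_quot_torsion hft h hN
  haveI : Module.Finite R (A ⧸ J) := Module.Finite.of_surjective
    (Ideal.Quotient.factorₐ R hle).toLinearMap (Ideal.Quotient.factor_surjective hle)
  let C : Submodule R (A ⧸ J) := ((aug R A).restrictScalars R).map (Ideal.Quotient.mkₐ R J).toLinearMap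
  have hCfg : C.FG := by
    have hr : C = LinearMap.range (LinearMap.id - (Algebra.linearMap R (A ⧸ J)).comp
        (Coalgebra.counit (R := R) (A := A ⧸ J))) := by
      refine le_antisymm ?_ ?_
      · rintro _ ⟨a, ha, rfl⟩
        refine ⟨Ideal.Quotient.mk J a, ?_⟩
        show Ideal.Quotient.mk J a - algebraMap R (A ⧸ J) (counit (R := R) a) = _
        rw [show counit a = (0 : R) from ha, map_zero, sub_zero]
        rfl
      · rintro _ ⟨z, rfl⟩
        obtain ⟨a, rfl⟩ := Ideal.Quotient.mk_surjective z
        exact ⟨a - algebraMap R A (counit a), mem_aug_sub a, rfl⟩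
    rw [hr, LinearMap.range_eq_map]
    exact Module.Finite.fg_top.map _
  have hC : C ≤ m • C := by
    rintro _ ⟨a, ha, rfl⟩
    obtain ⟨j, hj, x, hx, rfl⟩ := Submodule.mem_sup.1
      (show a ∈ J ⊔ Ideal.map (algebraMap R A) m by rw [hs]; exact Ideal.mem_sup_left ha)
    have hx0 : counit (R := R) x = 0 := by
      have : counit (R := R) (j + x) = 0 := ha
      rwa [map_add, show counit j = (0 : R) from le_aug J hj, zero_add] at this
    show Ideal.Quotient.mk J (j + x) ∈ _
    rw [map_add, Ideal.Quotient.eq_zero_iff_mem.2 hj, zero_add]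
    have key : ∀ y ∈ Ideal.map (algebraMap R A) m,
        Ideal.Quotient.mk J (y - algebraMap R A (counit y)) ∈ m • C := by
      intro y hy
      refine Submodule.span_induction ?_ ?_ ?_ ?_ hy
      · rintro _ ⟨r, -, rfl⟩
        simp
      · simp
      · intro y z _ _ hy hz
        have e : y + z - algebraMap R A (counit (y + z)) =
            (y - algebraMap R A (counit y)) + (z - algebraMap R A (counit z)) := by
          rw [map_add, map_add]; ring
        rw [e, map_add]; exact Submodule.add_mem _ hy hz
      · intro w y hy0 hy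
        have hyε : counit (R := R) y ∈ m := by
          have hle' : Ideal.map (algebraMap R A) m ≤ Ideal.comap (Bialgebra.counitAlgHom R A) m :=
            Ideal.map_le_iff_le_comap.2 fun r hr => by
              show Bialgebra.counitAlgHom R A (algebraMap R A r) ∈ m
              rw [AlgHom.commutes]; exact hr
          exact hle' hy0
        have e : w * y - algebraMap R A (counit (w * y)) =
            counit (R := R) y • (w - algebraMap R A (counit w)) + w * (y - algebraMap R A (counit y)) := by
          rw [Bialgebra.counit_mul, map_mul, Algebra.smul_def]; ring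
        rw [smul_eq_mul, e, map_add]
        refine Submodule.add_mem _ ?_ ?_
        · rw [← Ideal.Quotient.mkₐ_eq_mk R J, map_smul]
          exact Submodule.smul_mem_smul hyε
            (Submodule.mem_map_of_mem (f := (Ideal.Quotient.mkₐ R J).toLinearMap)
              (show w - algebraMap R A (counit w) ∈ (aug R A).restrictScalars R from mem_aug_sub w))
        · rw [map_mul]
          refine Submodule.smul_induction_on hy (fun r hr z hz => ?_) (fun z z' hz hz' => ?_)
          · rw [mul_smul_comm]
            obtain ⟨b, hb, rfl⟩ := hz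
            exact Submodule.smul_mem_smul hr
              ⟨w * b, Ideal.mul_mem_left _ _ hb, map_mul (Ideal.Quotient.mk J) w b⟩
          · rw [mul_add]; exact Submodule.add_mem _ hz hz'
    have := key x hx
    rwa [hx0, map_zero, sub_zero] at this
  have hbot := Submodule.eq_bot_of_le_smul_of_le_jacobson_bot m C hCfg hC
    (IsLocalRing.jacobson_eq_maximalIdeal ⊥ bot_ne_top).ge
  refine le_antisymm (le_aug J) fun a ha => Ideal.Quotient.eq_zero_iff_mem.1 ?_
  have hmem : Ideal.Quotient.mk J a ∈ C := ⟨a, ha, rfl⟩
  rwa [hbot, Submodule.mem_bot] at hmem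

end Groth.Agent.MTSub29
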