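import Groth.Agent.Lib.MultType.AdicTorsion

/-!
# Power maps of commutative Hopf algebras: ideals and cotangent space
-/

universe u

set_option autoImplicit false

open TensorProduct WithConv Coalgebra

namespace Groth.Agent.MTSub29

variable {R : Type u} [CommRing R] {A : Type u} [CommRing A] [HopfAlgebra R A]

/-- The augmentation ideal. -/
noncomputable abbrev aug (R A : Type u) [CommRing R] [CommRing A] [HopfAlgebra R A] : Ideal A :=
  RingHom.ker (Bialgebra.counitAlgHom R A)

/-- A point killing an ideal. -/
def Kills {K : Type u} [CommRing K] [Algebra R K] (J : Ideal A) (z : WithConv (A →ₐ[R] K)) : Prop :=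
  ∀ x ∈ J, z.ofConv x = 0

section Kills

variable {K : Type u} [CommRing K] [Algebra R K] {J : Ideal A} [J.IsHopfIdeal R]

theorem le_aug (J : Ideal A) [hJ : J.IsHopfIdeal R] : J ≤ aug R A := fun _ hx =>
  hJ.toIsCoideal.counit_eq_zero hx

theorem kills_one : Kills J (1 : WithConv (A →ₐ[R] K)) := fun x hx => by
  show algebraMap R K (counit x) = 0
  rw [show counit x = (0 : R) from le_aug J hx, map_zero]

theorem Kills.mul {z w : WithConv (A →ₐ[R] K)} (hz : Kills J z) (hw : Kills J w) : Kills J (z * w) := by
  intro x hx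
  let Jr := J.restrictScalars R
  let z' : A ⧸ Jr →ₗ[R] K := Jr.liftQ z.ofConv.toLinearMap fun a ha => hz a ha
  let w' : A ⧸ Jr →ₗ[R] K := Jr.liftQ w.ofConv.toLinearMap fun a ha => hw a ha
  have h : ∀ t : A ⊗[R] A, Algebra.TensorProduct.lift z.ofConv w.ofConv (fun _ _ => Commute.all _ _) t =
      LinearMap.mul' R K (TensorProduct.map z' w' (TensorProduct.map Jr.mkQ Jr.mkQ t)) := fun t => by
    induction t using TensorProduct.induction_on with
    | zero => simp
    | tmul a b => simp [z', w']
    | add a b ha hb => simp only [map_add, ha, hb]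
  show (z * w) x = 0
  rw [AlgHom.convMul_apply, h,
    (inferInstance : Jr.IsCoideal).map_mkQ_comul_eq_zero (show x ∈ Jr from hx), map_zero, map_zero]

theorem Kills.pow {z : WithConv (A →ₐ[R] K)} (hz : Kills J z) (n : ℕ) : Kills J (z ^ n) := by
  induction n with
  | zero => rw [pow_zero]; exact kills_one
  | succ n ih => rw [pow_succ]; exact ih.mul hz

/-- Hopf ideals are stable under power maps. -/
theorem powConv_mem {x : A} (hx : x ∈ J) (n : ℕ) : SGA3b.powConv R A n x ∈ J := by
  rw [← Ideal.Quotient.eq_zero_iff_mem]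
  have h := MultTypeLib.comp_powConv (Ideal.Quotient.mkₐ R J) n
  have hk : Kills J (toConv (Ideal.Quotient.mkₐ R J)) := fun a ha => Ideal.Quotient.eq_zero_iff_mem.2 ha
  have h2 := hk.pow n x hx
  rwa [← h] at h2

end Kills

theorem powConv_powConv (n m : ℕ) (x : A) :
    SGA3b.powConv R A n (SGA3b.powConv R A m x) = SGA3b.powConv R A (n * m) x := by
  have h : toConv ((SGA3b.powConv R A n).comp (SGA3b.powConv R A m)) = toConv (SGA3b.powConv R A (n * m)) := by
    rw [MultTypeLib.comp_powConv]
    show (toConv (AlgHom.id R A) ^ n) ^ m = toConv (AlgHom.id R A) ^ (n * m)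
    rw [← pow_mul]
  exact DFunLike.congr_fun (congrArg ofConv h) x

theorem counit_powConv (n : ℕ) (x : A) : counit (R := R) (SGA3b.powConv R A n x) = counit x := by
  have h : toConv ((Bialgebra.counitAlgHom R A).comp (SGA3b.powConv R A n)) =
      (1 : WithConv (A →ₐ[R] R)) := by
    rw [MultTypeLib.comp_powConv, show toConv (Bialgebra.counitAlgHom R A) = (1 : WithConv (A →ₐ[R] R)) from rfl,
      one_pow]
  exact DFunLike.congr_fun (congrArg ofConv h) x

theorem torsion_le_aug (n : ℕ) : SGA3b.torsionIdeal R A n ≤ aug R A :=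
  Ideal.map_le_iff_le_comap.2 fun x hx => by
    show counit (R := R) (SGA3b.powConv R A n x) = 0
    rw [counit_powConv]
    exact hx

/-- The deviations from the counit add up modulo their products. -/
theorem mul_sub_counit {D : Type u} [CommRing D] [Algebra R D] {f g : WithConv (A →ₐ[R] D)}
    (h : ∀ a b, (f.ofConv a - algebraMap R D (counit a)) * (g.ofConv b - algebraMap R D (counit b)) = 0)
    (a : A) : (f * g).ofConv a - algebraMap R D (counit a) =
      (f.ofConv a - algebraMap R D (counit a)) + (g.ofConv a - algebraMap R D (counit a)) := by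
  let r := Coalgebra.Repr.arbitrary R a
  have e0 : (f * g).ofConv a = ∑ i ∈ r.index, f.ofConv (r.left i) * g.ofConv (r.right i) := by
    show (f * g) a = _
    rw [AlgHom.convMul_apply, ← r.eq, map_sum]
    exact Finset.sum_congr rfl fun i _ => Algebra.TensorProduct.lift_tmul ..
  have e1 : f.ofConv a = ∑ i ∈ r.index, f.ofConv (r.left i) * algebraMap R D (counit (r.right i)) := by
    have h1 := congrArg (Algebra.TensorProduct.lift f.ofConv (Algebra.ofId R D) (fun _ _ => Commute.all _ _))
      (sum_tmul_counit_eq r)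
    rw [map_sum] at h1
    simp only [Algebra.TensorProduct.lift_tmul, AlgHom.comp_apply, Algebra.ofId_apply,
      Bialgebra.counitAlgHom_apply, map_one, one_mul, mul_one] at h1
    exact h1.symm
  have e2 : g.ofConv a = ∑ i ∈ r.index, algebraMap R D (counit (r.left i)) * g.ofConv (r.right i) := by
    have h1 := congrArg (Algebra.TensorProduct.lift (Algebra.ofId R D) g.ofConv (fun _ _ => Commute.all _ _))
      (sum_counit_tmul_eq r)
    rw [map_sum] at h1
    simp only [Algebra.TensorProduct.lift_tmul, AlgHom.comp_apply, Algebra.ofId_apply,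
      Bialgebra.counitAlgHom_apply, map_one, one_mul, mul_one] at h1
    exact h1.symm
  have e3 : algebraMap R D (counit a) =
      ∑ i ∈ r.index, algebraMap R D (counit (r.left i)) * algebraMap R D (counit (r.right i)) := by
    have h1 := congrArg (Algebra.TensorProduct.lift (Algebra.ofId R D)
      ((Algebra.ofId R D).comp (Bialgebra.counitAlgHom R A)) (fun _ _ => Commute.all _ _))
      (sum_counit_tmul_eq r)
    rw [map_sum] at h1
    simp only [Algebra.TensorProduct.lift_tmul, AlgHom.comp_apply, Algebra.ofId_apply,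
      Bialgebra.counitAlgHom_apply, map_one, one_mul, mul_one] at h1
    exact h1.symm
  have e4 : ∑ i ∈ r.index, (f.ofConv (r.left i) - algebraMap R D (counit (r.left i))) *
      (g.ofConv (r.right i) - algebraMap R D (counit (r.right i))) = 0 :=
    Finset.sum_eq_zero fun i _ => h _ _
  simp only [sub_mul, mul_sub, Finset.sum_sub_distrib, ← e0, ← e1, ← e2, ← e3] at e4
  linear_combination e4

/-- The `n`-th power map is multiplication by `n` on the cotangent space. -/
theorem powConv_sub_mem (n : ℕ) {x : A} (hx : x ∈ aug R A) :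
    SGA3b.powConv R A n x - (n : A) * x ∈ aug R A ^ 2 := by
  let y : WithConv (A →ₐ[R] A ⧸ aug R A ^ 2) := toConv (Ideal.Quotient.mkₐ R (aug R A ^ 2))
  let δ := fun (z : WithConv (A →ₐ[R] A ⧸ aug R A ^ 2)) (a : A) =>
    z.ofConv a - algebraMap R (A ⧸ aug R A ^ 2) (counit a)
  have hy : ∀ a, δ y a = Ideal.Quotient.mk _ (a - algebraMap R A (counit a)) := fun a =>
    (map_sub (Ideal.Quotient.mk (aug R A ^ 2)) _ _).symm
  have hmem : ∀ a : A, a - algebraMap R A (counit a) ∈ aug R A := fun a => by
    simp [aug, RingHom.mem_ker]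
  have key : ∀ (k : ℕ) (a : A), δ (y ^ k) a = (k : A ⧸ aug R A ^ 2) * δ y a := by
    intro k
    induction k with
    | zero =>
      intro a
      show algebraMap R _ (counit a) - algebraMap R _ (counit a) = _
      rw [sub_self, Nat.cast_zero, zero_mul]
    | succ k ih =>
      intro a
      rw [pow_succ y k]
      refine (mul_sub_counit (fun a b => ?_) a).trans ?_
      · show δ (y ^ k) a * δ y b = 0
        rw [ih, mul_assoc, hy, hy, ← map_mul, Ideal.Quotient.eq_zero_iff_mem.2
          (by rw [pow_two]; exact Ideal.mul_mem_mul (hmem a) (hmem b)), mul_zero]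
      · show δ (y ^ k) a + δ y a = _
        rw [ih, Nat.cast_succ, add_mul, one_mul]
  have h := key n x
  have h0 : counit (R := R) x = 0 := hx
  have hz : (y ^ n).ofConv x = Ideal.Quotient.mk _ (SGA3b.powConv R A n x) :=
    (DFunLike.congr_fun (congrArg ofConv (MultTypeLib.comp_powConv (Ideal.Quotient.mkₐ R (aug R A ^ 2)) n)) x).symm
  simp only [δ, h0, map_zero, sub_zero, hz] at h
  rw [← Ideal.Quotient.eq_zero_iff_mem, map_sub, map_mul, map_natCast, h]
  exact sub_self _

/-- Behaviour of torsion ideals under multiplication of the exponent. -/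
theorem torsion_mul_le (n q : ℕ) : SGA3b.torsionIdeal R A (n * q) ≤
    Ideal.span {(q : A)} * SGA3b.torsionIdeal R A n ⊔ SGA3b.torsionIdeal R A n ^ 2 := by
  refine Ideal.map_le_iff_le_comap.2 fun x hx => ?_
  show SGA3b.powConv R A (n * q) x ∈
    Ideal.span {(q : A)} * SGA3b.torsionIdeal R A n ⊔ SGA3b.torsionIdeal R A n ^ 2
  rw [← powConv_powConv]
  have h := Ideal.mem_map_of_mem (SGA3b.powConv R A n) (powConv_sub_mem q hx)
  rw [Ideal.map_pow] at h
  have h' : SGA3b.powConv R A n ((q : A) * x) ∈ Ideal.span {(q : A)} * SGA3b.torsionIdeal R A n := by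
    rw [map_mul, map_natCast]
    exact Ideal.mul_mem_mul (Ideal.mem_span_singleton_self _) (Ideal.mem_map_of_mem _ hx)
  have := Submodule.add_mem_sup h' h
  rwa [map_sub, add_sub_cancel] at this

theorem kills_torsion_iff {K : Type u} [CommRing K] [Algebra R K] (z : WithConv (A →ₐ[R] K)) (n : ℕ) :
    Kills (SGA3b.torsionIdeal R A n) z ↔ z ^ n = 1 := by
  have e : ∀ a, (z ^ n).ofConv a = z.ofConv (SGA3b.powConv R A n a) := fun a =>
    (DFunLike.congr_fun (congrArg ofConv (MultTypeLib.comp_powConv z.ofConv n)) a).symm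
  constructor
  · intro h
    apply ofConv_injective
    refine AlgHom.ext fun a => ?_
    have h1 := h _ (Ideal.mem_map_of_mem (SGA3b.powConv R A n)
      (show a - algebraMap R A (counit a) ∈ aug R A by simp [aug, RingHom.mem_ker]))
    rw [map_sub, map_sub, AlgHom.commutes, AlgHom.commutes, sub_eq_zero, ← e] at h1
    exact h1
  · intro h x hx
    suffices SGA3b.torsionIdeal R A n ≤ RingHom.ker z.ofConv from this hx
    refine Ideal.map_le_iff_le_comap.2 fun a ha => ?_
    show z.ofConv (SGA3b.powConv R A n a) = 0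
    rw [← e, h]
    show algebraMap R K (counit a) = 0
    rw [show counit a = (0 : R) from ha, map_zero]

end Groth.Agent.MTSub29
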